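import Mathlib
import Cfsg.Agent.Lib.Helper52.BG.S1380Defs
import Cfsg.Agent.Lib.Helper52.BG.S1428B2

/-!
# S1380 (Bender–Glauberman Theorem I), package C

`lemC : Cfsg.Agent.Lib.Helper52.BG80.LemC`: pure group theory, the `p'`-core of `M` is cyclic
when `C_M(P) = C_H(P) X`, `H = P × Z`, with `Z`, `X` commuting cyclic groups of coprime orders
prime to `p`.  Paper proof: helper52's note on topic `S1380` (package C).
-/

set_option autoImplicit false

namespace Cfsg.Agent.Lib.Helper12.BG80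

open Cfsg Subgroup

universe u

variable {G : Type u} [Group G]

/-- Elements of `N ⊔ H` are products when `H` normalizes `N`. -/
theorem c80_exists_mul {N H : Subgroup G} (hLE : H ≤ normalizer (N : Set G)) {x : G}
    (hx : x ∈ N ⊔ H) : ∃ n ∈ N, ∃ h ∈ H, x = n * h := by
  have hx' : x ∈ ((N ⊔ H : Subgroup G) : Set G) := hx
  rw [Subgroup.coe_mul_of_right_le_normalizer_left N H hLE] at hx'
  obtain ⟨n, hn, h, hh, rfl⟩ := Set.mem_mul.mp hx'
  exact ⟨n, hn, h, hh, rfl⟩

/-- Two commuting cyclic subgroups of coprime orders generate a cyclic subgroup. -/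
theorem c80_sup_eq_zpowers [Finite G] {Z X : Subgroup G} (hZc : IsCyclic ↥Z) (hXc : IsCyclic ↥X)
    (hcop : (Nat.card ↥X).Coprime (Nat.card ↥Z)) (hXZ : X ≤ centralizer (Z : Set G)) :
    ∃ g : G, Z ⊔ X = zpowers g := by
  obtain ⟨z, hz⟩ := hZc.exists_generator
  obtain ⟨x, hx⟩ := hXc.exists_generator
  have hzo : orderOf (z : G) = Nat.card Z := by
    rw [Subgroup.orderOf_coe]; exact orderOf_eq_card_of_forall_mem_zpowers hz
  have hxo : orderOf (x : G) = Nat.card X := by
    rw [Subgroup.orderOf_coe]; exact orderOf_eq_card_of_forall_mem_zpowers hx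
  have hcomm : Commute (z : G) (x : G) := by
    have h := hXZ x.2
    rw [Subgroup.mem_centralizer_iff] at h
    exact h z z.2
  have ho : orderOf ((z : G) * (x : G)) = Nat.card Z * Nat.card X := by
    rw [hcomm.orderOf_mul_eq_mul_orderOf_of_coprime (by rw [hzo, hxo]; exact hcop.symm), hzo, hxo]
  refine ⟨(z : G) * (x : G), ?_⟩
  have hle : zpowers ((z : G) * (x : G)) ≤ Z ⊔ X := by
    rw [Subgroup.zpowers_le]
    exact Subgroup.mul_mem_sup z.2 x.2
  symm
  apply Subgroup.eq_of_le_of_card_ge hle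
  rw [Nat.card_zpowers, ho]
  have hXN : X ≤ normalizer (Z : Set G) := hXZ.trans (Subgroup.centralizer_le_normalizer _)
  have hd : Nat.card (X ⊔ Z : Subgroup G) ∣ Nat.card X * Nat.card Z :=
    Cfsg.Agent.Lib.Helper27.BG.card_sup_dvd_mul hXN
  rw [sup_comm, mul_comm] at hd
  exact Nat.le_of_dvd (Nat.mul_pos Nat.card_pos Nat.card_pos) hd

/-- Package C of the S1380 project. -/
theorem lemC : Cfsg.Agent.Lib.Helper52.BG80.LemC.{u} := by
  intro G _ _ M H P Z X p hp hHM hMH hPH hZH hHPZ hPp hMP hZp hZc hZP hXc hXp hXZ' hC hXZ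
  have hpF : Fact p.Prime := ⟨hp⟩
  have hnorm : (pPrimeCore p ↥M).Normal := Cfsg.Agent.Lib.Helper22.pPrimeCore_normal' p ↥M
  set W : Subgroup G := (pPrimeCore p ↥M).map M.subtype with hW
  have hWM : W ≤ M := Subgroup.map_subtype_le _
  have hMW : M ≤ normalizer (W : Set G) :=
    Cfsg.Agent.Lib.Helper13.BG.le_normalizer_map_subtype _
  have hWp : (Nat.card W).Coprime p := by
    rw [hW, Subgroup.card_map_of_injective M.subtype_injective]
    exact Cfsg.Agent.Lib.Helper22.card_pPrimeCore_coprime p ↥M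
  obtain ⟨k, hk⟩ := IsPGroup.exists_card_eq hPp
  -- `P ⊓ W = ⊥`
  have hPW : P ⊓ W = ⊥ := by
    apply Disjoint.eq_bot
    apply Subgroup.disjoint_of_coprime_natCard
    rw [hk]
    exact Nat.Coprime.pow_left k hWp.symm
  have hWC : W ≤ centralizer (P : Set G) := fun w hw =>
    Cfsg.Agent.Lib.Helper52.BG.b2_mem_centralizer (hMP (hWM hw)) hw
      ((hPH.trans hHM).trans hMW) hPW
  have hW1 : W ≤ (H ⊓ centralizer (P : Set G)) ⊔ X := by
    rw [← hC]; exact le_inf hWM hWC
  have hXMC : X ≤ M ⊓ centralizer (P : Set G) := by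
    rw [hC]; exact le_sup_right
  have hXCP : X ≤ centralizer (P : Set G) := hXMC.trans inf_le_right
  -- `A = Z(P)`
  set A : Subgroup G := P ⊓ centralizer (P : Set G) with hA
  have hZNP : Z ≤ normalizer (P : Set G) := hZP.trans (Subgroup.centralizer_le_normalizer _)
  have h1 : H ⊓ centralizer (P : Set G) ≤ A ⊔ Z := by
    intro h hh
    obtain ⟨a, ha, z, hz, rfl⟩ := c80_exists_mul hZNP (hHPZ hh.1)
    have haC : a ∈ centralizer (P : Set G) := by
      have h2 := (centralizer (P : Set G)).mul_mem hh.2 ((centralizer (P : Set G)).inv_mem (hZP hz))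
      simpa using h2
    exact Subgroup.mul_mem_sup ⟨ha, haC⟩ hz
  set B : Subgroup G := Z ⊔ X with hB
  have hBCP : B ≤ centralizer (P : Set G) := sup_le hZP hXCP
  have hW2 : W ≤ A ⊔ B := by
    refine hW1.trans ?_
    rw [hB, ← sup_assoc]
    exact sup_le_sup_right h1 X
  have hBNA : B ≤ normalizer (A : Set G) := by
    intro b hb
    rw [Subgroup.mem_normalizer_iff]
    intro a
    have hba : ∀ a' ∈ P, b * a' * b⁻¹ = a' := by
      intro a' ha'
      have h2 := Subgroup.mem_centralizer_iff.mp (hBCP hb) a' ha'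
      rw [← h2]; group
    constructor
    · intro ha
      rw [hba a ha.1]; exact ha
    · intro ha
      have h3 : a ∈ P := by
        have h4 : b⁻¹ * (b * a * b⁻¹) * b⁻¹⁻¹ = b * a * b⁻¹ := by
          have h5 := Subgroup.mem_centralizer_iff.mp ((centralizer (P : Set G)).inv_mem (hBCP hb))
            (b * a * b⁻¹) ha.1
          rw [← h5]; group
        have h6 : b⁻¹ * (b * a * b⁻¹) * b⁻¹⁻¹ = a := by group
        rw [← h6, h4]; exact ha.1
      rw [hba a h3] at ha; exact ha
  -- `|B|` is prime to `p`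
  have hXNZ : X ≤ normalizer (Z : Set G) := hXZ.trans (Subgroup.centralizer_le_normalizer _)
  have hBp : (Nat.card B).Coprime p := by
    have hd : Nat.card (X ⊔ Z : Subgroup G) ∣ Nat.card X * Nat.card Z :=
      Cfsg.Agent.Lib.Helper27.BG.card_sup_dvd_mul hXNZ
    rw [sup_comm] at hd
    exact Nat.Coprime.coprime_dvd_left hd (Nat.Coprime.mul_left hXp hZp)
  have hAB : A ⊓ B = ⊥ := by
    apply Disjoint.eq_bot
    apply Subgroup.disjoint_of_coprime_natCard
    have hAd : Nat.card A ∣ p ^ k := by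
      rw [← hk]; exact Subgroup.card_dvd_of_le inf_le_left
    exact Nat.Coprime.coprime_dvd_left hAd (Nat.Coprime.pow_left k hBp.symm)
  -- `W ≤ B`
  have hWB : W ≤ B := by
    intro w hw
    obtain ⟨a, ha, b, hb, rfl⟩ := c80_exists_mul hBNA (hW2 hw)
    have hcomm : Commute a b := by
      have h2 := Subgroup.mem_centralizer_iff.mp (hBCP hb) a ha.1
      exact h2
    have hwn : (a * b) ^ Nat.card W = 1 := by
      have h2 : (⟨a * b, hw⟩ : W) ^ Nat.card W = 1 := pow_card_eq_one'
      have h3 : ((⟨a * b, hw⟩ : W) : G) ^ Nat.card W = 1 := by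
        rw [← Subgroup.coe_pow, h2]; rfl
      exact h3
    rw [hcomm.mul_pow] at hwn
    have han : a ^ Nat.card W ∈ A ⊓ B := by
      refine ⟨A.pow_mem ha _, ?_⟩
      have h2 : a ^ Nat.card W = (b ^ Nat.card W)⁻¹ := eq_inv_of_mul_eq_one_left hwn
      rw [h2]
      exact B.inv_mem (B.pow_mem hb _)
    rw [hAB, Subgroup.mem_bot] at han
    have ho1 : orderOf a ∣ Nat.card W := orderOf_dvd_of_pow_eq_one han
    have ho2 : orderOf a ∣ p ^ k := by
      rw [← hk]
      have h2 : orderOf (⟨a, ha.1⟩ : P) ∣ Nat.card P := orderOf_dvd_natCard _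
      rwa [Subgroup.orderOf_mk] at h2
    have ho : orderOf a = 1 :=
      Nat.eq_one_of_dvd_coprimes (Nat.Coprime.pow_right k hWp) ho1 ho2
    rw [orderOf_eq_one_iff] at ho
    rw [ho, one_mul]
    exact hb
  obtain ⟨g, hg⟩ := c80_sup_eq_zpowers hZc hXc hXZ' hXZ
  have hWg : ∀ w : ↥(pPrimeCore p ↥M), ((w : ↥M) : G) ∈ zpowers g := by
    intro w
    rw [← hg]
    apply hWB
    exact Subgroup.mem_map_of_mem M.subtype w.2
  let f : ↥(pPrimeCore p ↥M) →* ↥(zpowers g) :=
    (M.subtype.comp (pPrimeCore p ↥M).subtype).codRestrict (zpowers g) hWg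
  have hf : Function.Injective f := by
    intro a b hab
    have h2 := congrArg Subtype.val hab
    exact Subtype.ext (Subtype.ext h2)
  exact isCyclic_of_injective f hf

end Cfsg.Agent.Lib.Helper12.BG80
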